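import Cfsg.Agent.J4A.TcH
import Cfsg.Agent.J4A.TcP
import Cfsg.Agent.J4A.Top
import Cfsg.Agent.J4A.Mem
import Cfsg.Agent.Comp.Trans
import Cfsg.Agent.Comp.Chain
import Cfsg.Agent.Golay.Hom

/-! The standard presentation of `M24`. -/

set_option autoImplicit false
set_option maxRecDepth 10000

namespace Cfsg.Agent.J4A
open Cfsg Cfsg.Agent.Comp Subgroup

/-- one step of the normal form in the free product of groups of orders two and three -/
def st (a : ℕ) : List ℕ → List ℕ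
  | [] => [a]
  | b :: w => if a = 0 ∧ b = 0 ∨ a = 1 ∧ b = 2 ∨ a = 2 ∧ b = 1 then w else
      if a = 1 ∧ b = 1 then 2 :: w else if a = 2 ∧ b = 2 then 1 :: w else a :: b :: w

/-- the normal form -/
def nf (w : List ℕ) : List ℕ := w.foldr st []

theorem ev_nf {G : Type*} [Group G] {s : ℕ → G} (h : Sat s R) (w : List ℕ) :
    ev s (nf w) = ev s w := by
  have h0 : s 0 * s 0 = 1 := by simpa using h [0, 0] (by decide)
  have h1 : s 1 * s 2 = 1 := by simpa using h [1, 2] (by decide)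
  have h2 : s 2 * s 1 = 1 := by simpa using h [2, 1] (by decide)
  have h3 : s 1 * s 1 = s 2 := by
    have : s 1 * (s 1 * s 1) = 1 := by simpa using h [1, 1, 1] (by decide)
    exact mul_left_cancel (this.trans h1.symm)
  have h4 : s 2 * s 2 = s 1 := by rw [← h3, mul_assoc, h3, ← mul_assoc, mul_assoc, h1, mul_one]
  induction w with
  | nil => rfl
  | cons a w ih =>
    rw [ev_cons, ← ih, show nf (a :: w) = st a (nf w) from rfl]
    cases nf w with
    | nil => rfl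
    | cons b u =>
      rw [st, ev_cons, ← mul_assoc]
      split_ifs with e1 e2 e3
      · rcases e1 with ⟨rfl, rfl⟩ | ⟨rfl, rfl⟩ | ⟨rfl, rfl⟩ <;> simp [h0, h1, h2]
      · rw [e2.1, e2.2, h3, ev_cons]
      · rw [e3.1, e3.2, h4, ev_cons]
      · rw [ev_cons, ev_cons, mul_assoc]

/-- the letters in `M24` -/
noncomputable def t (i : ℕ) : M24 := if i = 0 then X else if i = 1 then Y else Y⁻¹

/-- the code of a word -/
noncomputable def evc (w : List ℕ) : ℕ :=
  w.foldr (fun a c => Golay.force c fun c =>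
    Golay.mul (if a = 0 then cX else if a = 1 then cY else Golay.inv cY) c) Golay.one

theorem pc_ev (w : List ℕ) : Golay.pc (ev t w).1 = evc w := by
  induction w with
  | nil => exact Golay.pc_one
  | cons a w ih =>
    have hX : Golay.pc X.1 = cX := Golay.pc_tp_of_m24Err (by decide +kernel)
    have hY : Golay.pc Y.1 = cY := Golay.pc_tp_of_m24Err (by decide +kernel)
    rw [ev_cons, coe_mul, ← Golay.mul_pc, ih, evc, evc, List.foldr_cons, Golay.force_eq, t]
    split_ifs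
    · rw [hX]
    · rw [hY]
    · rw [coe_inv, ← Golay.inv_pc, hY]

theorem ev_eq_one {w : List ℕ} (h : evc w = Golay.one) : ev t w = 1 :=
  Subtype.ext (Golay.pc_injective (by rw [pc_ev, h]; exact Golay.pc_one.symm))

theorem sat_t : Sat t R := fun w hw =>
  ev_eq_one ((by decide +kernel : ∀ w ∈ R, evc w = Golay.one) w hw)

theorem hR : ∀ w ∈ R, ∀ x ∈ w, x < 3 := by decide +kernel

/-- generators of a subgroup of order `4608` -/
def FS : List (List ℕ) := [[0], [1, 0, 1, 0, 2], [1, 0, 2, 0, 2], [2, 0, 2, 0, 2, 0, 1, 0, 2, 0, 1, 0, 2, 0, 1, 0, 1, 0, 1]]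

theorem bound {G : Type} [Group G] {s : ℕ → G} (h : Sat s R) (φ : G →* M24)
    (hφ : ∀ x < 3, φ (s x) = t x) : CardLe (gen s 3) 244823040 := by
  have hev : ∀ w : List ℕ, (∀ x ∈ w, x < 3) → φ (ev s w) = ev t w := fun w hw => by
    rw [map_ev]; exact ev_congr fun x hx => hφ x (hw x hx)
  set u : ℕ → G := fun x => ev s (FS.getD x []) with hu
  have h1 : ∀ w, nf (subst FS w) = [] ∨ nf (subst FS w) ∈ R → ev u w = 1 := fun w e => by
    rw [← ev_subst, ← ev_nf h]
    exact e.elim (fun e => by rw [e]; rfl) (h _)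
  have h2 : Sat u TcH.R := fun w hw => h1 w ((by decide +kernel : ∀ w ∈ TcH.R,
    nf (subst FS w) = [] ∨ nf (subst FS w) ∈ R) w hw)
  have h3 : CardLe (gen u 3) (48 * 1) := (cardLe_nil u).step (TcH.index G u h2)
  have h4 : genW s Mem.W ≤ gen u 3 := genW_le.2 fun w hw => by
    obtain ⟨x, hx, rfl⟩ := (by decide +kernel : ∀ w ∈ Mem.W, ∃ x < 3, w = FS.getD x []) w hw
    exact letter_mem_gen (s := u) hx
  have h5 := (injOn_of_card ((Subgroup.subtype _).comp φ) h3 (by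
    refine (Golay.card_of_bfs (Golay.gen_Cl (cs := [evc (FS.getD 0 []), evc (FS.getD 1 [])])
      (by decide +kernel)) 49 (by decide +kernel)).ge.trans (card_le_of_le (Golay.Cl_le ?_))
    simp only [Golay.In, List.forall_mem_cons]
    exact ⟨⟨_, ⟨_, letter_mem_gen (s := u) (x := 0) (by norm_num), rfl⟩, by
      rw [← pc_ev, ← hev _ (by decide)]; rfl⟩, ⟨_, ⟨_, letter_mem_gen (s := u) (x := 1)
        (by norm_num), rfl⟩, by rw [← pc_ev, ← hev _ (by decide)]; rfl⟩, nofun⟩)).2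
  have h6 : Sat u TcP.R := fun w hw => by
    rcases (by decide +kernel : ∀ w ∈ TcP.R, (nf (subst FS w) = [] ∨ nf (subst FS w) ∈ R) ∨
      nf (subst FS w) ∈ Mem.V ∧ evc (nf (subst FS w)) = Golay.one ∧ ∀ x ∈ nf (subst FS w), x < 3)
      w hw with e | e
    · exact h1 w e
    · rw [← ev_subst, ← ev_nf h]
      exact h5 _ (h4 (Mem.mem G s h _ e.1)) (by
        rw [MonoidHom.comp_apply, hev _ e.2.2, ev_eq_one e.2.1]; rfl)
  have h7 := (h3.of_eq (genW_le_gen (by decide))).step (TcP.index G u h6)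
  exact (h7.of_eq (genW_le.2 fun w hw => by
    obtain ⟨x, hx, rfl⟩ := (by decide +kernel : ∀ w ∈ Top.W, ∃ x < 4, w = FS.getD x []) w hw
    exact letter_mem_gen (s := u) hx)).step (Top.index G s h)

theorem gen_t : gen t 3 = ⊤ := eq_top_of_le_card _ (by
  rw [Golay.card_M24, ← card_map_of_injective (f := Subgroup.subtype _) (subtype_injective _)]
  refine Golay.le_card_of_in_gensM24 fun c hc => ?_
  obtain ⟨w, -, h1, rfl⟩ := (by decide +kernel : ∀ c ∈ Golay.gensM24,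
    ∃ w ∈ [[2, 0, 1, 0, 2, 0, 1, 0, 1, 0, 1, 0, 2, 0, 2, 0, 2, 0, 1, 0, 1, 0, 1, 0, 2, 0, 1, 0, 2, 0, 1, 0, 1, 0, 1, 0, 2, 0, 1, 0, 1, 0, 2, 0, 2, 0, 2, 0, 1, 0, 1, 0, 2, 0, 2],
      [0, 1, 0, 2, 0, 1, 0, 1, 0, 2, 0, 1, 0, 2, 0, 1, 0, 1, 0, 1, 0, 2, 0, 1, 0, 1, 0, 1, 0, 1, 0, 2, 0, 2, 0, 2, 0, 2, 0, 2, 0, 2, 0, 1, 0, 1, 0]], (∀ x ∈ w, x < 3) ∧ evc w = c) c hc
  exact ⟨_, ⟨_, ev_mem fun x hx => letter_mem_gen (h1 x hx), rfl⟩, pc_ev w⟩)

theorem exists_hom {G : Type*} [Group G] (s : ℕ → G) (h : Sat s R) :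
    ∃ ι : M24 →* G, ι X = s 0 ∧ ι Y = s 1 := by
  obtain ⟨φ, hφ⟩ := pres_univ hR t sat_t
  obtain ⟨ψ, hψ⟩ := pres_univ hR s h
  obtain ⟨h1, h2⟩ := bound (presS_sat 3 R) φ hφ
  rw [presS_top] at h1 h2
  have : Finite (Pres 3 R) := Finite.of_equiv _ topEquiv.toEquiv
  have h3 : Function.Surjective φ := MonoidHom.range_eq_top.1 (eq_top_iff.2 (gen_t ▸ gen_le.2
    fun x hx => ⟨_, hφ x hx⟩))
  let e := MulEquiv.ofBijective φ (h3.bijective_of_nat_card_le (by
    rwa [Golay.card_M24, ← card_top]))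
  have h4 : ∀ x < 3, ψ (e.symm (t x)) = s x := fun x hx => by
    rw [← hψ x hx, ← hφ x hx]; exact congrArg ψ (e.symm_apply_apply _)
  exact ⟨ψ.comp e.symm.toMonoidHom, h4 0 (by norm_num), h4 1 (by norm_num)⟩

end Cfsg.Agent.J4A
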