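import Cfsg.Agent.Comp.Word
import Cfsg.Agent.Golay.M24Basic

/-! The standard generators of `M24` and the relators of their presentation. -/

set_option autoImplicit false

namespace Cfsg.Agent.J4A
open Cfsg Cfsg.Agent.Comp

/-- the relators; the letters are `x`, `y`, `y⁻¹` -/
def R : List (List ℕ) :=
  [[0, 0],
   [1, 2],
   [2, 1],
   [1, 1, 1],
   [0, 1, 0, 1, 0, 1, 0, 1, 0, 1, 0, 1, 0, 1, 0, 1, 0, 1, 0, 1, 0, 1, 0, 1, 0, 1, 0, 1, 0, 1, 0, 1, 0, 1, 0, 1, 0, 1, 0, 1, 0, 1, 0, 1, 0, 1],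
   [0, 2, 0, 1, 0, 2, 0, 1, 0, 2, 0, 1, 0, 2, 0, 1, 0, 2, 0, 1, 0, 2, 0, 1, 0, 2, 0, 1, 0, 2, 0, 1, 0, 2, 0, 1, 0, 2, 0, 1, 0, 2, 0, 1, 0, 2, 0, 1],
   [0, 2, 0, 2, 0, 1, 0, 1, 0, 2, 0, 2, 0, 1, 0, 1, 0, 2, 0, 2, 0, 1, 0, 1, 0, 2, 0, 2, 0, 1, 0, 1, 0, 2, 0, 2, 0, 1, 0, 1],
   [0, 1, 0, 1, 0, 2, 0, 1, 0, 2, 0, 1, 0, 2, 0, 1, 0, 1, 0, 2, 0, 1, 0, 2, 0, 1, 0, 2, 0, 1, 0, 1, 0, 2, 0, 1, 0, 2, 0, 1, 0, 2, 0, 1, 0, 1, 0, 2, 0, 1, 0, 2, 0, 1, 0, 2],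
   [0, 1, 0, 1, 0, 2, 0, 1, 0, 1, 0, 2, 0, 1, 0, 1, 0, 2, 0, 1, 0, 2, 0, 2, 0, 1, 0, 2, 0, 2, 0, 1, 0, 2, 0, 2]]

/-- code of `X` -/
def cX : ℕ := 46752582811499538609330377980456693
/-- code of `Y` -/
def cY : ℕ := 360024954677162233874608749362496544

/-- the generator of order two -/
noncomputable def X : M24 := ⟨Golay.tp cX, Golay.tp_mem_of_m24Err (by decide +kernel)⟩
/-- the generator of order three -/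
noncomputable def Y : M24 := ⟨Golay.tp cY, Golay.tp_mem_of_m24Err (by decide +kernel)⟩

end Cfsg.Agent.J4A
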