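import Cfsg.Agent.Comp.TC

set_option autoImplicit false
set_option maxRecDepth 100000

namespace Cfsg.Agent.J4A.TcH
open Cfsg.Agent.Comp

noncomputable def t0 : Tr := (Tr.node (nat_lit 0) (Tr.leaf (nat_lit 0x4131fffc04f001800ce8163fff801801be0198c4bffff0138005c0329857fffe005c06e8064312dfffc04d001600c6615bfff801601b60188c0affff00c2018000a9814fffe017c02f00142027fffc02e805c0026404bfff805b00b40048848ffff0128004402c9051fffe004406a80581121fffc049001000ae2143fff801001a601584087fff00aa01500080000fffe014c0290051))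
(Tr.node (nat_lit 1) (Tr.leaf (nat_lit 0x5149fffc057002400f6a193fff802401de03cd451ffff0158008c07c2863fffe008c076807a5145fffc055002201eca18bfff802201d603c9410ffff00f201e0010a820fffe01dc03b0020503ffffc03a8074003ea07bfff807300e4007900effff00e201c000ea01cfffe01bc037001c4037fffc036806c0036806bfff806b00d4006904cffff01400064034a059fffe00640708068))
(Tr.leaf (nat_lit 0x8179fffc0be803c037ce2ebfff817b007407fdc1bffff01f806fc01bb834fffe01fc09e8034605ffffc07d01be005ec0b3fff807e027600b1854ffff017000a4098b069fffe00a407c80ad6151fffc05b002800fac1a3fff802801ee02ad853ffff0168009c0583067fffe009c07a807c614dfffc0590026015cc19bfff802601e602a9452ffff016000940bca865fffe009407880f5))))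

noncomputable def T : Tr := t0

def RT : List (List (List Nat)) := [
  [[nat_lit 2, nat_lit 0, nat_lit 2, nat_lit 0, nat_lit 2, nat_lit 0, nat_lit 0, nat_lit 0, nat_lit 1, nat_lit 0, nat_lit 1, nat_lit 0, nat_lit 1],
   [nat_lit 1, nat_lit 0, nat_lit 2, nat_lit 0, nat_lit 2, nat_lit 0, nat_lit 2, nat_lit 0, nat_lit 0, nat_lit 0, nat_lit 1, nat_lit 0, nat_lit 1],
   [nat_lit 1, nat_lit 0, nat_lit 1, nat_lit 0, nat_lit 2, nat_lit 0, nat_lit 2, nat_lit 0, nat_lit 2, nat_lit 0, nat_lit 0, nat_lit 0, nat_lit 1],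
   [nat_lit 2, nat_lit 0, nat_lit 2, nat_lit 0, nat_lit 0, nat_lit 0, nat_lit 1, nat_lit 0, nat_lit 1, nat_lit 0, nat_lit 1, nat_lit 0, nat_lit 2],
   [nat_lit 2, nat_lit 0, nat_lit 0, nat_lit 0, nat_lit 1, nat_lit 0, nat_lit 1, nat_lit 0, nat_lit 1, nat_lit 0, nat_lit 2, nat_lit 0, nat_lit 2]],
  [],
  [[nat_lit 1, nat_lit 1],
   [nat_lit 0, nat_lit 1, nat_lit 0, nat_lit 2, nat_lit 0, nat_lit 2, nat_lit 0, nat_lit 2, nat_lit 0, nat_lit 0, nat_lit 0, nat_lit 1, nat_lit 0]],
  []]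

def HT : List (List (Nat × Nat × Nat)) := [
  [(0, 4, 7), (0, 4, 5), (0, 4, 3), (0, 4, 9), (0, 4, 11)],
  [],
  [(0, 3, 0), (0, 4, 4)],
  []]

def R : List (List Nat) :=
  [[0, 0],
   [1, 2],
   [2, 1],
   [1, 1, 1],
   [0, 1, 0, 1, 0, 1, 0, 2, 0, 2, 0, 2, 0, 0]]

def W : List (List Nat) := []

noncomputable def P : Par := ⟨T, (nat_lit 4), (nat_lit 15), (nat_lit 75), (nat_lit 15), (nat_lit 32767), (nat_lit 6), (nat_lit 63), (nat_lit 3), (nat_lit 64), (nat_lit 64), (nat_lit 0x418440), RT⟩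

noncomputable def J0 : List Nat := [
  nat_lit 0x1880102211141022111418801880188018801022111410221114102211141,
  nat_lit 0x221114188018801880188018801880188018801022111410221114102211141,
  nat_lit 0x22111414221714102219141a2211141c221d14188018861880188611141b141]

theorem c0 : chk T (nat_lit 4) (nat_lit 15) (nat_lit 75) (nat_lit 15) (nat_lit 32767) (nat_lit 6) (nat_lit 63) (nat_lit 3) (nat_lit 64) (nat_lit 64) (nat_lit 0x418440) (nat_lit 3) (nat_lit 7) RT (nat_lit 16) J0 (nat_lit 16) = true := by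
  decide +kernel

theorem r0 : P.RowsOK 16 64 := chk_sound P _ _ _ J0 _ _ (by decide +kernel) c0

theorem index.{u} : IndexLe.{u} 3 R W 48 :=
  indexLe_of_cert P HT (by decide +kernel)
    (show P.RowsOK 16 64 from r0)

end Cfsg.Agent.J4A.TcH
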