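import Cfsg.Agent.Comp.TC

/-! Partial coset enumerations: words that lie in the subgroup. -/

set_option autoImplicit false

namespace Cfsg.Agent.Comp

/-- follows a word through known entries -/
noncomputable def Par.trc (P : Par) : List ℕ → ℕ → ℕ
  | [], c => c
  | y :: w, c => if y < P.L ∧ 2 ^ P.a ≤ c ∧ c < P.M ∧ P.e c y ≠ P.MW then P.trc w (P.tg c y) else 0

/-- what a partial enumeration proves -/
def MemW.{u} (R W V : List (List ℕ)) : Prop :=
  ∀ (G : Type u) [Group G] (s : ℕ → G), Sat s R → ∀ w ∈ V, ev s w ∈ genW s W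

theorem memW_of_cert {R W V : List (List ℕ)} (P : Par) (HT : List (List (ℕ × ℕ × ℕ)))
    (h : (invOK P.L P.iv R && rulesOK P.L P.iv R W 0 P.RT HT && decide (P.nb ≤ P.M) &&
      decide (P.e (2 ^ P.a) (P.L + 1) = 0) && V.all fun w => P.trc w (2 ^ P.a) == 2 ^ P.a) = true)
    (hrows : P.RowsOK (2 ^ P.a) P.M) : MemW R W V := by
  simp only [Bool.and_eq_true, decide_eq_true_eq, List.all_eq_true, beq_iff_eq] at h
  obtain ⟨⟨⟨⟨h1, h2⟩, h3⟩, h4⟩, h5⟩ := h
  intro G _ s hs
  have hW : ∀ w, ev s w • ((1 : G) : G ⧸ genW s W) = ((1 : G) : G ⧸ genW s W) ↔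
      ev s w ∈ genW s W := fun w => by
    rw [← MulAction.mem_stabilizer_iff, MulAction.stabilizer_quotient]
  set v := P.val (act s P.L) ((1 : G) : G ⧸ genW s W) with hv
  have key : ∀ w c, P.trc w c ≠ 0 → v (P.trc w c) = (ev s w)⁻¹ • v c := fun w => by
    induction w with
    | nil => intro c _; simp [Par.trc]
    | cons y w ih =>
      intro c hc
      rw [Par.trc] at hc ⊢
      split_ifs at hc ⊢ with e
      · have := (tc_good P hs (fun w hw => (hW w).2 (ev_mem_genW hw)) h1 h2 h3 h4 hrows _ c y e.2.1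
          e.2.2.1 e.1.le rfl fun k => e.2.2.2 k.1).2
        rw [Rel, if_neg (by omega), act, if_pos e.1] at this
        rw [ih _ hc, hv, this, ev_cons, mul_inv_rev, mul_smul]
      · exact absurd rfl hc
  intro w hw
  have := key w (2 ^ P.a) (by rw [h5 w hw]; positivity)
  rw [h5 w hw, hv, Par.val, if_pos le_rfl, eq_inv_smul_iff] at this
  exact (hW w).1 this

end Cfsg.Agent.Comp
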